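import Mathlib

set_option autoImplicit false
universe u

namespace Groth.Agent.GrInt8
open Polynomial

attribute [local instance] Polynomial.algebra

variable {S : Type u} [CommRing S] (𝒮 : ℕ → AddSubgroup S) [GradedRing 𝒮]

noncomputable def spread : S →+* S[X] :=
  (DirectSum.toSemiring (fun i => ((Polynomial.monomial i).toAddMonoidHom).comp (𝒮 i).subtype)
    (by show monomial 0 (1 : S) = 1; exact monomial_zero_one)
    (fun {i j} a b => by show monomial (i + j) ((a : S) * b) = monomial i (a : S) * monomial j (b : S); rw [monomial_mul_monomial])).comp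
    (DirectSum.decomposeRingEquiv 𝒮).toRingHom

theorem spread_homogeneous {i : ℕ} {s : S} (hs : s ∈ 𝒮 i) : spread 𝒮 s = monomial i s := by
  rw [spread, RingHom.comp_apply]
  erw [DirectSum.decompose_of_mem 𝒮 hs, DirectSum.toSemiring_of]
  rfl

theorem coeff_spread (s : S) (n : ℕ) : (spread 𝒮 s).coeff n = (DirectSum.decompose 𝒮 s n : S) := by
  induction s using DirectSum.Decomposition.inductionOn 𝒮 with
  | zero => simp
  | @homogeneous i m =>
    rw [spread_homogeneous 𝒮 m.2, coeff_monomial, DirectSum.decompose_coe]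
    split_ifs with h
    · subst h; simp
    · rw [DirectSum.of_eq_of_ne _ _ _ (Ne.symm h)]; simp
  | add a b ha hb => rw [map_add, coeff_add, ha, hb, DirectSum.decompose_add]; simp

theorem isIntegral_decompose {R S : Type u} [CommRing R] [CommRing S] [Algebra R S] (ℛ : ℕ → AddSubgroup R)
    [GradedRing ℛ] (𝒮 : ℕ → AddSubgroup S) [GradedRing 𝒮]
    (hmap : ∀ i : ℕ, ∀ r ∈ ℛ i, algebraMap R S r ∈ 𝒮 i) (s : S) (hs : IsIntegral R s) (i : ℕ) :
    IsIntegral R ((DirectSum.decompose 𝒮 s i : 𝒮 i) : S) := by
  have hcomm : ∀ r, spread 𝒮 (algebraMap R S r) = algebraMap R[X] S[X] (spread ℛ r) := by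
    intro r
    induction r using DirectSum.Decomposition.inductionOn ℛ with
    | zero => simp
    | @homogeneous j m =>
      rw [spread_homogeneous ℛ m.2, spread_homogeneous 𝒮 (hmap j m m.2)]
      exact (Polynomial.map_monomial _).symm
    | add a b ha hb => simp only [map_add, ha, hb]
  obtain ⟨p, hp, he⟩ := hs
  have : IsIntegral R[X] (spread 𝒮 s) := by
    refine ⟨p.map (spread ℛ), hp.map _, ?_⟩
    rw [eval₂_map, show (algebraMap R[X] S[X]).comp (spread ℛ) = (spread 𝒮).comp (algebraMap R S) from
      RingHom.ext fun r => (hcomm r).symm, ← hom_eval₂, he, map_zero]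
  rw [← coeff_spread]
  exact this.coeff i

end Groth.Agent.GrInt8
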