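import Mathlib

set_option autoImplicit false
universe u

open scoped TensorProduct

namespace Groth.Agent.GrInt8

theorem exists_scale {A : Type u} [CommRing A] (p : PrimeSpectrum A) {α β : Type} [Finite α] [Finite β]
    (X : Matrix α β p.asIdeal.ResidueField) :
    ∃ (s : p.asIdeal.ResidueField) (Xa : Matrix α β A), s ≠ 0 ∧ Xa.map (algebraMap A p.asIdeal.ResidueField) = s • X := by
  classical
  obtain ⟨b, hb⟩ := IsLocalization.exist_integer_multiples_of_finite (nonZeroDivisors (A ⧸ p.asIdeal))
    (fun q : α × β => X q.1 q.2)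
  choose c hc using hb
  choose a ha using fun q => Ideal.Quotient.mk_surjective (c q)
  refine ⟨algebraMap _ _ (b : A ⧸ p.asIdeal), Matrix.of fun i j => a (i, j), ?_, ?_⟩
  · exact (map_ne_zero_iff _ (IsFractionRing.injective (A ⧸ p.asIdeal) p.asIdeal.ResidueField)).mpr
      (nonZeroDivisors.ne_zero b.2)
  · ext i j
    rw [Matrix.map_apply, Matrix.of_apply, IsScalarTower.algebraMap_apply A (A ⧸ p.asIdeal) p.asIdeal.ResidueField,
      Ideal.Quotient.algebraMap_eq, ha, hc, Algebra.smul_def, Matrix.smul_apply, smul_eq_mul]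

theorem isOpen_rank_ge {A : Type u} [CommRing A] {ρ γ : ℕ} (M : Matrix (Fin ρ) (Fin γ) A) (n : ℕ) :
    IsOpen {p : PrimeSpectrum A | n ≤ (M.map (algebraMap A p.asIdeal.ResidueField)).rank} := by
  classical
  have key : {p : PrimeSpectrum A | n ≤ (M.map (algebraMap A p.asIdeal.ResidueField)).rank} =
      ⋃ XY : Matrix (Fin n) (Fin ρ) A × Matrix (Fin γ) (Fin n) A,
        (PrimeSpectrum.basicOpen (XY.1 * M * XY.2).det : Set (PrimeSpectrum A)) := by
    ext p
    set κ := p.asIdeal.ResidueField
    simp only [Set.mem_setOf_eq, Set.mem_iUnion, SetLike.mem_coe, PrimeSpectrum.mem_basicOpen]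
    constructor
    · intro hn
      set L := (M.map (algebraMap A κ)).mulVecLin
      obtain ⟨g, hg⟩ := exists_linearIndependent_of_le_finrank (R := κ) (M := LinearMap.range L) hn
      choose x hx using fun i => (g i).2
      let X : Matrix (Fin γ) (Fin n) κ := Matrix.of fun c i => x i c
      have hinj : Function.Injective (M.map (algebraMap A κ) * X).mulVecLin := by
        rw [Matrix.coe_mulVecLin, Matrix.mulVec_injective_iff]
        have h1 := hg.map' (LinearMap.range L).subtype (Submodule.ker_subtype _)
        have : (M.map (algebraMap A κ) * X).col = fun i => ((g i : LinearMap.range L) : Fin ρ → κ) := by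
          funext i c; rw [← hx]; rfl
        rw [this]; exact h1
      obtain ⟨Yl, hY⟩ := LinearMap.exists_leftInverse_of_injective _ (LinearMap.ker_eq_bot.mpr hinj)
      have hYX : LinearMap.toMatrix' Yl * (M.map (algebraMap A κ)) * X = 1 := by
        rw [Matrix.mul_assoc, ← LinearMap.toMatrix'_toLin' (M.map (algebraMap A κ) * X), Matrix.toLin'_apply', ← LinearMap.toMatrix'_comp, hY, LinearMap.toMatrix'_id]
      obtain ⟨s, Ya, hs, hYa⟩ := exists_scale p (LinearMap.toMatrix' Yl)
      obtain ⟨t, Xa, ht, hXa⟩ := exists_scale p X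
      refine ⟨(Ya, Xa), ?_⟩
      rw [← Ideal.algebraMap_residueField_eq_zero, RingHom.map_det, RingHom.mapMatrix_apply, Matrix.map_mul, Matrix.map_mul,
        hYa, hXa, Matrix.smul_mul, Matrix.smul_mul, Matrix.mul_smul, hYX, smul_smul, Matrix.det_smul, Matrix.det_one, mul_one]
      exact pow_ne_zero _ (mul_ne_zero hs ht)
    · rintro ⟨⟨X, Y⟩, hdet⟩
      rw [← Ideal.algebraMap_residueField_eq_zero, RingHom.map_det, RingHom.mapMatrix_apply, Matrix.map_mul, Matrix.map_mul] at hdet
      have hu : IsUnit (X.map (algebraMap A κ) * M.map (algebraMap A κ) * Y.map (algebraMap A κ)) :=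
        (Matrix.isUnit_iff_isUnit_det _).mpr (Ne.isUnit hdet)
      have h1 := Matrix.rank_of_isUnit _ hu
      rw [Fintype.card_fin] at h1
      exact h1.symm.le.trans ((Matrix.rank_mul_le_left _ _).trans (Matrix.rank_mul_le_right _ _))
  rw [key]
  exact isOpen_iUnion fun _ => PrimeSpectrum.isOpen_basicOpen

theorem isConstructible_span_rank (A : Type u) [CommRing A] [IsNoetherianRing A]
    (S : Type u) [CommRing S] [Algebra A S]
    (Q : Type u) [AddCommGroup Q] [Module A Q] [Module S Q] [IsScalarTower A S Q]
    [Module.Finite A Q] [Module.Flat A Q] (n : ℕ) :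
    Topology.IsConstructible {p : PrimeSpectrum A |
      Module.finrank p.asIdeal.ResidueField
        (Submodule.span p.asIdeal.ResidueField
          (Set.range fun s : S =>
            LinearMap.baseChange p.asIdeal.ResidueField (DistribSMul.toLinearMap A Q s))) = n} := by
  classical
  haveI : Module.FinitePresentation A Q := Module.finitePresentation_of_finite A Q
  haveI : Module.Projective A Q := Module.Flat.projective_of_finitePresentation
  obtain ⟨m, π, hπ⟩ := Module.Finite.exists_fin' A Q
  obtain ⟨ι, hι⟩ := Module.projective_lifting_property π LinearMap.id hπ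
  let act : S →ₗ[A] Module.End A Q := (Algebra.lsmul A A Q).toLinearMap
  haveI : Module.Finite A (Module.End A Q) := inferInstance
  obtain ⟨r, w, hw⟩ := Submodule.fg_iff_exists_fin_generating_family.mp (IsNoetherian.noetherian (LinearMap.range act))
  let M : Matrix (Fin (m * m)) (Fin r) A := Matrix.of fun c j =>
    LinearMap.toMatrix' (ι ∘ₗ w j ∘ₗ π) (finProdFinEquiv.symm c).1 (finProdFinEquiv.symm c).2
  have heq : ∀ p : PrimeSpectrum A, Module.finrank p.asIdeal.ResidueField
        (Submodule.span p.asIdeal.ResidueField (Set.range fun s : S =>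
            LinearMap.baseChange p.asIdeal.ResidueField (DistribSMul.toLinearMap A Q s))) =
      (M.map (algebraMap A p.asIdeal.ResidueField)).rank := by
    intro p
    set κ := p.asIdeal.ResidueField
    have hspan : Submodule.span κ (Set.range fun s : S => LinearMap.baseChange κ (DistribSMul.toLinearMap A Q s)) =
        Submodule.span κ (Set.range fun j => LinearMap.baseChange κ (w j)) := by
      apply le_antisymm <;> rw [Submodule.span_le]
      · rintro _ ⟨s, rfl⟩
        have h1 : DistribSMul.toLinearMap A Q s ∈ Submodule.span A (Set.range w) := by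
          rw [hw]; exact ⟨s, rfl⟩
        obtain ⟨c, hc⟩ := (Submodule.mem_span_range_iff_exists_fun A).mp h1
        show LinearMap.baseChange κ (DistribSMul.toLinearMap A Q s) ∈ _
        rw [← hc]
        have e : LinearMap.baseChange κ (∑ i, c i • w i) = ∑ i, c i • LinearMap.baseChange κ (w i) := by
          exact (map_sum (LinearMap.baseChangeHom A κ Q Q) _ _).trans (Finset.sum_congr rfl fun i _ => map_smul _ _ _)
        rw [e]
        refine Submodule.sum_mem _ fun i _ => ?_
        rw [← IsScalarTower.algebraMap_smul κ (c i)]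
        exact Submodule.smul_mem _ _ (Submodule.subset_span ⟨i, rfl⟩)
      · rintro _ ⟨j, rfl⟩
        obtain ⟨s, hs⟩ : w j ∈ LinearMap.range act := hw ▸ Submodule.subset_span ⟨j, rfl⟩
        exact Submodule.subset_span ⟨s, show LinearMap.baseChange κ (DistribSMul.toLinearMap A Q s) = _ from congrArg (LinearMap.baseChange κ) hs⟩
    let bκ := Algebra.TensorProduct.basis κ (Pi.basisFun A (Fin m))
    let πκ := π.baseChange κ
    let ικ := ι.baseChange κ
    have hπι : πκ ∘ₗ ικ = LinearMap.id := by rw [← LinearMap.baseChange_comp, hι, LinearMap.baseChange_id]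
    let Ψ : Module.End κ (κ ⊗[A] Q) →ₗ[κ] (Fin (m * m) → κ) :=
      { toFun := fun T c => LinearMap.toMatrix bκ bκ (ικ ∘ₗ T ∘ₗ πκ) (finProdFinEquiv.symm c).1 (finProdFinEquiv.symm c).2
        map_add' := fun S T => by funext c; simp [LinearMap.add_comp, LinearMap.comp_add]
        map_smul' := fun a T => by funext c; simp [LinearMap.smul_comp, LinearMap.comp_smul] }
    have hΨ : Function.Injective Ψ := by
      intro S T h
      have h1 : ικ ∘ₗ S ∘ₗ πκ = ικ ∘ₗ T ∘ₗ πκ := by
        apply (LinearMap.toMatrix bκ bκ).injective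
        ext i j
        have h0 := congrFun h (finProdFinEquiv (i, j))
        simp only [Ψ, LinearMap.coe_mk, AddHom.coe_mk, Equiv.symm_apply_apply] at h0
        exact h0
      refine LinearMap.ext fun x => ?_
      have h2 := congrArg πκ (LinearMap.congr_fun h1 (ικ x))
      simp only [LinearMap.comp_apply] at h2
      simpa only [← LinearMap.comp_apply πκ ικ, hπι, LinearMap.id_apply] using h2
    have hΨw : ∀ j, Ψ (LinearMap.baseChange κ (w j)) = (M.map (algebraMap A κ)).col j := by
      intro j
      funext c
      show LinearMap.toMatrix bκ bκ (ι.baseChange κ ∘ₗ (w j).baseChange κ ∘ₗ π.baseChange κ) _ _ = _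
      rw [← LinearMap.baseChange_comp, ← LinearMap.baseChange_comp, LinearMap.toMatrix_baseChange]
      simp [M, ← LinearMap.toMatrix_eq_toMatrix']
    rw [hspan, Matrix.rank_eq_finrank_span_cols, LinearEquiv.finrank_eq
      (Submodule.equivMapOfInjective Ψ hΨ (Submodule.span κ (Set.range fun j => LinearMap.baseChange κ (w j)))),
      Submodule.map_span, ← Set.range_comp]
    rw [show (⇑Ψ ∘ fun j => LinearMap.baseChange κ (w j)) = (M.map (algebraMap A κ)).col from funext hΨw]
  have hset : {p : PrimeSpectrum A | Module.finrank p.asIdeal.ResidueField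
        (Submodule.span p.asIdeal.ResidueField (Set.range fun s : S =>
            LinearMap.baseChange p.asIdeal.ResidueField (DistribSMul.toLinearMap A Q s))) = n} =
      {p | n ≤ (M.map (algebraMap A p.asIdeal.ResidueField)).rank} \
        {p | n + 1 ≤ (M.map (algebraMap A p.asIdeal.ResidueField)).rank} := by
    ext p
    simp only [Set.mem_diff, Set.mem_setOf_eq, heq p]
    omega
  have hcons : ∀ {U : Set (PrimeSpectrum A)}, IsOpen U → Topology.IsConstructible U := fun {U} hU => by
    haveI := (inferInstance : TopologicalSpace.NoetherianSpace (PrimeSpectrum A))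
    exact (TopologicalSpace.NoetherianSpace.isCompact U).isConstructible hU
  rw [hset]
  exact (hcons (isOpen_rank_ge M n)).sdiff (hcons (isOpen_rank_ge M (n + 1)))

end Groth.Agent.GrInt8
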